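import Cfsg.Agent.H819.U33.Base
import Cfsg.Agent.H819.U33.Trip

/-!
# S5525: the assembly of the boxes (helper841)
-/

set_option autoImplicit false

namespace Cfsg.Agent.H841.U33

open Cfsg.Agent.H819.U33

/-- `c` centralises the triple. -/
def Good {K : Type*} [Group K] (u y x : K) : Prop :=
  ∃ c : K, c ≠ 1 ∧ c * u = u * c ∧ c * y = y * c ∧ c * x = x * c

theorem Good.of_conj {K : Type*} [Group K] {u y x k : K} (h : Good (k * u * k⁻¹) (k * y * k⁻¹) (k * x * k⁻¹)) :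
    Good u y x := by
  obtain ⟨c, h1, h2, h3, h4⟩ := h
  refine ⟨k⁻¹ * c * k, ?_, ?_, ?_, ?_⟩
  · intro h
    apply h1
    calc c = k * (k⁻¹ * c * k) * k⁻¹ := by group
      _ = 1 := by rw [h]; group
  · calc k⁻¹ * c * k * u = k⁻¹ * (c * (k * u * k⁻¹)) * k := by group
      _ = u * (k⁻¹ * c * k) := by rw [h2]; group
  · calc k⁻¹ * c * k * y = k⁻¹ * (c * (k * y * k⁻¹)) * k := by group
      _ = y * (k⁻¹ * c * k) := by rw [h3]; group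
  · calc k⁻¹ * c * k * x = k⁻¹ * (c * (k * x * k⁻¹)) * k := by group
      _ = x * (k⁻¹ * c * k) := by rw [h4]; group

theorem trip_conj' {K : Type*} [Group K] {u y x : K} (h : Trip u y x) (k : K) :
    Trip (k * u * k⁻¹) (k * y * k⁻¹) (k * x * k⁻¹) := by
  have := h.conj k⁻¹
  simpa only [inv_inv] using this

/-- **The assembly**, in an arbitrary group. `u₀, f₀, y₀` : 7-local frame; `y₁, pA, pB, P₁` : 3-local frame; `X` : complement of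
`⟨f₀⟩` in `C(f₀)`; `x₂₇`. -/
theorem main_of {K : Type*} [Group K] {u₀ f₀ y₀ y₁ pA pB x₂₇ : K} {P₁ X : Subgroup K}
    -- box D
    (seven : ∀ {u y x : K}, Trip u y x → ∃ k : K, k * u * k⁻¹ = u₀ ∧ (k * y * k⁻¹ = f₀ ∨ k * y * k⁻¹ = y₀))
    -- boxes E, F
    (three : ∀ {u y x : K}, Trip u y x → ∃ k : K, k * x * k⁻¹ = y₁ ∧ (k * y * k⁻¹ = pA ∨ k * y * k⁻¹ = pB))
    (hne : ¬ IsConj f₀ y₀)
    -- links
    (link : ∃ l : K, l * y₁ * l⁻¹ = x₂₇ ∧ l * pA * l⁻¹ = f₀)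
    (swap : ∃ s : K, s * pB * s⁻¹ = y₁ ∧ s * y₁ * s⁻¹ ∈ P₁)
    -- box C
    (dir : ∀ k : K, k * f₀ = f₀ * k → ∃ h ∈ X, ∃ i : ℤ, k = h * f₀ ^ i)
    (hx27 : x₂₇ * f₀ = f₀ * x₂₇)
    -- normality of `P₁` in `C(y₁)`, and the link of the frames
    (P0 : Subgroup K) (hP0 : ∃ c : K, c * y₁ * c⁻¹ = y₀ ∧ P0 = P₁.map (MulAut.conj c).toMonoidHom)
    (hP1 : ∀ k : K, k * y₁ = y₁ * k → ∀ p ∈ P₁, k * p * k⁻¹ ∈ P₁)
    -- the enumerations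
    (typeI : ∀ h ∈ X, Trip u₀ f₀ (h * x₂₇ * h⁻¹) → Good u₀ f₀ (h * x₂₇ * h⁻¹))
    (typeII : ∀ x ∈ P0, Trip u₀ y₀ x → Good u₀ y₀ x)
    {u y x : K} (h : Trip u y x) : Good u y x := by
  have hAf : IsConj pA f₀ := by
    obtain ⟨l, -, hl⟩ := link
    exact isConj_iff.mpr ⟨l, hl⟩
  have hBy : IsConj pB y₀ := by
    obtain ⟨s, hs, -⟩ := swap
    obtain ⟨c, hc, -⟩ := hP0
    exact (isConj_iff.mpr ⟨s, hs⟩).trans (isConj_iff.mpr ⟨c, hc⟩)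
  have hfB : ¬ IsConj f₀ pB := fun h => hne (h.trans hBy)
  have hyA : ¬ IsConj y₀ pA := fun h => hne (h.trans hAf).symm
  obtain ⟨k, hu, hy⟩ := seven h
  apply Good.of_conj (k := k)
  have h' := trip_conj' h k
  obtain ⟨x', hx'⟩ : ∃ x', x' = k * x * k⁻¹ := ⟨_, rfl⟩
  rw [hu, ← hx'] at h' ⊢
  rcases hy with hy | hy
  · -- type I
    rw [hy] at h' ⊢
    obtain ⟨m, hm1, hm2⟩ := three h'
    have hm3 : m * f₀ * m⁻¹ = pA := by
      rcases hm2 with h2 | h2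
      · exact h2
      · exact absurd (isConj_iff.mpr ⟨m, h2⟩) hfB
    obtain ⟨l, hl1, hl2⟩ := link
    have e1 : (l * m) * x' * (l * m)⁻¹ = x₂₇ := by
      rw [← hl1, ← hm1]; group
    have e2 : (l * m) * f₀ * (l * m)⁻¹ = f₀ := by
      rw [← hm3] at hl2
      calc (l * m) * f₀ * (l * m)⁻¹ = l * (m * f₀ * m⁻¹) * l⁻¹ := by group
        _ = f₀ := hl2
    have e3 : (l * m)⁻¹ * f₀ = f₀ * (l * m)⁻¹ := by
      have : f₀ * (l * m) = (l * m) * f₀ := by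
        calc f₀ * (l * m) = ((l * m) * f₀ * (l * m)⁻¹) * (l * m) := by rw [e2]
          _ = (l * m) * f₀ := by group
      calc (l * m)⁻¹ * f₀ = (l * m)⁻¹ * (f₀ * (l * m)) * (l * m)⁻¹ := by group
        _ = f₀ * (l * m)⁻¹ := by rw [this]; group
    obtain ⟨h1, hh1, i, hi⟩ := dir _ e3
    have hcomm : f₀ ^ i * x₂₇ * (f₀ ^ i)⁻¹ = x₂₇ := by
      have : Commute (f₀ ^ i) x₂₇ := (show Commute f₀ x₂₇ from hx27.symm).zpow_left i
      rw [this.eq]; group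
    have e4 : x' = h1 * x₂₇ * h1⁻¹ := by
      calc x' = (l * m)⁻¹ * ((l * m) * x' * (l * m)⁻¹) * ((l * m)⁻¹)⁻¹ := by group
        _ = (h1 * f₀ ^ i) * x₂₇ * (h1 * f₀ ^ i)⁻¹ := by rw [e1, hi]
        _ = h1 * (f₀ ^ i * x₂₇ * (f₀ ^ i)⁻¹) * h1⁻¹ := by group
        _ = h1 * x₂₇ * h1⁻¹ := by rw [hcomm]
    rw [e4] at h' ⊢
    exact typeI h1 hh1 h'
  · -- type II
    rw [hy] at h' ⊢
    obtain ⟨m, hm1, hm2⟩ := three h'
    have hm3 : m * y₀ * m⁻¹ = pB := by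
      rcases hm2 with h2 | h2
      · exact absurd (isConj_iff.mpr ⟨m, h2⟩) hyA
      · exact h2
    obtain ⟨s, hs1, hs2⟩ := swap
    obtain ⟨c, hc1, rfl⟩ := hP0
    apply typeII _ _ h'
    -- `n = (c s m)` commutes with `y₀`
    have e1 : s * m * y₀ * (s * m)⁻¹ = y₁ := by
      rw [← hm3] at hs1
      calc s * m * y₀ * (s * m)⁻¹ = s * (m * y₀ * m⁻¹) * s⁻¹ := by group
        _ = y₁ := hs1
    have e2 : s * m * x' * (s * m)⁻¹ ∈ P₁ := by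
      rw [← hm1] at hs2
      have : s * m * x' * (s * m)⁻¹ = s * (m * x' * m⁻¹) * s⁻¹ := by group
      rw [this]; exact hs2
    have e3 : (c⁻¹ * (s * m)⁻¹) * y₁ = y₁ * (c⁻¹ * (s * m)⁻¹) := by
      rw [← hc1] at e1
      calc (c⁻¹ * (s * m)⁻¹) * y₁ = (c⁻¹ * (s * m)⁻¹) * (s * m * (c * y₁ * c⁻¹) * (s * m)⁻¹) := by rw [e1]
        _ = y₁ * (c⁻¹ * (s * m)⁻¹) := by group
    refine ⟨(c⁻¹ * (s * m)⁻¹) * (s * m * x' * (s * m)⁻¹) * (c⁻¹ * (s * m)⁻¹)⁻¹, hP1 _ e3 _ e2, ?_⟩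
    show c * _ * c⁻¹ = x'
    group

end Cfsg.Agent.H841.U33
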